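import Groth.Agent.HorrocksPnLib.Core
import Groth.Agent.CMRegLib.Drop

/-!
# Extensions of twisting sheaves
-/

set_option autoImplicit false
set_option backward.isDefEq.respectTransparency false
set_option linter.style.haveILetI false
set_option maxHeartbeats 400000

universe u

open CategoryTheory CategoryTheory.Limits AlgebraicGeometry TopologicalSpace Opposite
open Groth.Agent.PullbackMod Groth.Agent.DCohLib

noncomputable section

namespace Groth.Agent.HorrocksPnLib

/-- A sequence with trivial quotient and no `H¹` of the kernel has a section. -/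
theorem exists_section_of_subsingleton_H1 (k : Type u) [Field k] {X : Scheme.{u}}
    [X.Over (Spec (CommRingCat.of k))] {S : ShortComplex X.Modules} (hS : S.ShortExact)
    (h : Subsingleton (Coh.HH X S.X₁ 1)) (u : Coh.structureModule X ≅ S.X₃) :
    ∃ s : S.X₃ ⟶ S.X₂, s ≫ S.g = 𝟙 _ := by
  have hg : Function.Surjective (CurveLib.hMap (k := k) S.g 0) := fun y => by
    have hy : y ∈ LinearMap.ker (CurveLib.hδ (k := k) hS 0) :=
      LinearMap.mem_ker.2 (@Subsingleton.elim (Coh.HH X S.X₁ 1) h _ _)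
    rw [← CurveLib.range_hMap_g] at hy
    exact hy
  obtain ⟨σ, hσ⟩ := (CMRegLib.surjective_hMap_zero S.g).1 hg (AmpleLib.sec u.hom)
  have he : DCohLib.secHom S.X₂ σ ≫ S.g = u.hom := by
    rw [← AmpleLib.secHom_sec (DCohLib.secHom S.X₂ σ ≫ S.g), ← AmpleLib.secHom_sec u.hom, ← hσ]
    refine congrArg _ ?_
    show S.g.app ⊤ (AmpleLib.sec (DCohLib.secHom S.X₂ σ)) = _
    rw [AmpleLib.sec_secHom]
  exact ⟨u.inv ≫ DCohLib.secHom S.X₂ σ, by rw [Category.assoc, he, Iso.inv_hom_id]⟩

theorem nonempty_splitting_of_map {C D : Type*} [Category C] [Preadditive C] [Balanced C] [Category D] [Preadditive D]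
    (T : C ⥤ D) [T.PreservesZeroMorphisms] [T.Full] [T.Faithful] {S : ShortComplex C} (hS : S.ShortExact)
    (s : (S.map T).X₃ ⟶ (S.map T).X₂) (hs : s ≫ (S.map T).g = 𝟙 _) : Nonempty S.Splitting := by
  obtain ⟨t, rfl⟩ : ∃ t, T.map t = s := ⟨T.preimage s, T.map_preimage s⟩
  refine ⟨ShortComplex.Splitting.ofExactOfSection S hS.exact t (T.map_injective ?_) hS.mono_f⟩
  rw [T.map_comp, T.map_id]
  exact hs

variable {k : Type u} [Field k] {n : ℕ}

local notation "PS" => CohB1.ProjSpace n k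
local notation "O(" d ")" => Twist.twistProjSpace n k d

theorem nonempty_cancel_twist {b c : ℤ} (h : b + c = 0) :
    Nonempty (CohB1.tensorMod (O(b)) (O(c)) ≅ Coh.structureModule PS) := by
  let e₁ : CohB1.tensorMod (Twist.twist (CohB1.polyGrading n k) b) (Twist.twist (CohB1.polyGrading n k) c) ≅
      Twist.twist (CohB1.polyGrading n k) 0 :=
    ProjTwistLib.mulIso (𝒜 := CohB1.polyGrading n k) h (CMRegLib.hasUnit _)
  let e₂ : Coh.structureModule (Proj (CohB1.polyGrading n k)) ≅ Twist.twist (CohB1.polyGrading n k) 0 :=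
    @asIso _ _ _ _ (ProjCoh.unitToTwist (CohB1.polyGrading n k)) ProjCoh.isIso_unitToTwist
  exact ⟨e₁ ≪≫ e₂.symm⟩

/-- Extensions of twisting sheaves split on `ℙ^n`, `n ≥ 2`. -/
theorem nonempty_splitting (hn : 2 ≤ n) {a b : ℤ} {S : ShortComplex (PS).Modules} (hS : S.ShortExact)
    (ea : S.X₁ ≅ O(a)) (eb : S.X₃ ≅ O(b)) : Nonempty S.Splitting := by
  haveI := CMRegLib.isNoetherian_projSpace (k := k) (n := n)
  obtain ⟨e₀⟩ := nonempty_cancel_twist (k := k) (n := n) (add_neg_cancel b)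
  obtain ⟨η⟩ := nonempty_cancel_twist (k := k) (n := n) (neg_add_cancel b)
  haveI := VBLib.isEquivalence_tensR η
  have h1 : Subsingleton (Coh.HH PS (CMRegLib.twSeq S (-b)).X₁ 1) :=
    CMRegLib.HT.iso ea.symm (CMRegLib.HT_twist a (-b) le_rfl (Or.inr (by omega)))
  let eb' : CohB1.tensorMod (O(b)) (O(-b)) ≅ (CMRegLib.twSeq S (-b)).X₃ := AmpleLib.tIso eb.symm (Iso.refl _)
  let u : Coh.structureModule PS ≅ (CMRegLib.twSeq S (-b)).X₃ := e₀.symm.trans eb'
  obtain ⟨s, hs⟩ := exists_section_of_subsingleton_H1 k (CMRegLib.shortExact_twSeq hS (-b)) h1 u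
  exact nonempty_splitting_of_map (CurveLib.tensR (O(-b))) hS s hs

end Groth.Agent.HorrocksPnLib
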