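import Groth.Agent.HorrocksPnLib.Core
import Groth.Agent.DCohMore.DualFlf
import Groth.Agent.CMRegLib.Drop
import Groth.Agent.DCohLib.SuppOpen

/-!
# A line bundle summand of a module without middle cohomology
-/

set_option autoImplicit false
set_option backward.isDefEq.respectTransparency false
set_option linter.style.haveILetI false
set_option maxHeartbeats 400000

universe u

open CategoryTheory CategoryTheory.Limits AlgebraicGeometry TopologicalSpace Opposite
open Groth.Agent.PullbackMod Groth.Agent.DCohLib Groth.Agent.StalkHomLib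

noncomputable section

namespace Groth.Agent.HorrocksPnLib

variable {k : Type u} [Field k] {n : ℕ}

local notation "PS" => CohB1.ProjSpace n k
local notation "O(" d ")" => Twist.twistProjSpace n k d

theorem flf_of_rank {X : Scheme.{u}} {r : ℕ} {E : X.Modules} (hE : FlatMod.IsFinLocFreeOfRank r E) :
    FlatMod.IsFinLocFree E :=
  fun x => let ⟨U, hx, e⟩ := hE x; ⟨U, r, hx, e⟩

theorem exists_regular {F : (PS).Modules} (hF : Coh.IsCoh F) : ∃ m : ℤ, Curv2.IsMRegular k n F m := by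
  classical
  choose d hd using fun p : ℕ => CMRegLib.eventually_vanish (p := p + 1) hF (Nat.succ_pos p)
  refine ⟨(n : ℤ) + ∑ p ∈ Finset.range n, max (d p) 0, fun i hi hin => ?_⟩
  obtain ⟨p, rfl⟩ : ∃ p, i = p + 1 := ⟨i - 1, by omega⟩
  refine hd p _ ?_
  have h1 : max (d p) 0 ≤ ∑ q ∈ Finset.range n, max (d q) 0 :=
    Finset.single_le_sum (f := fun q => max (d q) 0) (fun q _ => le_max_right _ _)
      (Finset.mem_range.2 (by omega))
  have h2 := le_max_left (d p) 0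
  push_cast
  omega

theorem nontrivial_stalk {X : Scheme.{u}} {r : ℕ} (hr : 0 < r) {E : X.Modules}
    (hE : FlatMod.IsFinLocFreeOfRank r E) (x : X) : Nontrivial (E.presheaf.stalk x) := by
  obtain ⟨e⟩ := CurveLib.freeAt_of_isFinLocFreeOfRank hE x
  haveI : Nonempty (Fin r) := ⟨⟨0, hr⟩⟩
  exact e.toEquiv.nontrivial

theorem not_isZero_structureModule {X : Scheme.{u}} (x : X) : ¬ IsZero (Coh.structureModule X) := fun hz => by
  have h1 : (LocFreeHomLib.one' x : (Coh.structureModule X).presheaf.stalk x) = 0 :=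
    @Subsingleton.elim _ (DCohLib.subsingleton_stalk_of_isZero hz x) _ _
  have h2 := (ParaFLib.bijective_oneG x).1 (a₁ := (1 : X.presheaf.stalk x)) (a₂ := 0)
    (show (1 : X.presheaf.stalk x) • LocFreeHomLib.one' x = (0 : X.presheaf.stalk x) • LocFreeHomLib.one' x by
      rw [h1, smul_zero, smul_zero])
  exact one_ne_zero h2

/-- The dual of a nowhere zero module is nonzero. -/
theorem not_isZero_dual {X : Scheme.{u}} [Nonempty X] {r : ℕ} (hr : 0 < r) {E : X.Modules}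
    [ModSite.HasSheafHom (O := X.sheaf) E] (hE : FlatMod.IsFinLocFreeOfRank r E) :
    ¬ IsZero ((hF E).obj (Coh.structureModule X)) := fun hz => by
  haveI := DCohMore.epi_ev E (flf_of_rank hE) (nontrivial_stalk hr hE)
  haveI : ((DCoh.tensorBi (X := X)).flip.obj E).Additive :=
    Groth.Agent.ModTensor.additive_tensorBi_flip X.sheaf E
  have h0 : ev E (Coh.structureModule X) = 0 :=
    (((DCoh.tensorBi (X := X)).flip.obj E).map_isZero hz).eq_of_src _ _
  refine not_isZero_structureModule (Classical.arbitrary X) ((IsZero.iff_id_eq_zero _).2 ?_)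
  rw [← cancel_epi (ev E (Coh.structureModule X)), h0, zero_comp, comp_zero]

/-- Maps into the dual are pairings. -/
theorem exists_pairing {X : Scheme.{u}} {E : X.Modules} [ModSite.HasSheafHom (O := X.sheaf) E] {L : X.Modules}
    (f : L ⟶ (hF E).obj (Coh.structureModule X)) (hf : f ≠ 0) :
    ∃ g : CohB1.tensorMod E L ⟶ Coh.structureModule X, g ≠ 0 := by
  let adj : (DCoh.tensorBi (X := X)).flip.obj E ⊣ hF E := ModSite.sheafHomAdj (O := X.sheaf) E
  refine ⟨(AmpleLib.comm E L).hom ≫ (adj.homEquiv _ _).symm f, fun h0 => hf ?_⟩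
  have h1 : (adj.homEquiv _ _).symm f = 0 := by
    rw [← cancel_epi (AmpleLib.comm E L).hom, comp_zero]
    exact h0
  have h2 := congrArg (adj.homEquiv L (Coh.structureModule X)) h1
  rw [Equiv.apply_symm_apply] at h2
  rw [h2, Adjunction.homEquiv_unit, Functor.map_zero, comp_zero]

theorem exists_pairing_twist {r : ℕ} (hr : 0 < r) {E : (PS).Modules} (hE : FlatMod.IsFinLocFreeOfRank r E) :
    ∃ (m : ℤ) (g : CohB1.tensorMod E (O(-m)) ⟶ Coh.structureModule PS), g ≠ 0 := by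
  haveI := CMRegLib.isNoetherian_projSpace (k := k) (n := n)
  haveI : ModSite.HasSheafHom (O := (PS).sheaf) E := Groth.Agent.ModTensor.hasSheafHom (O := (PS).sheaf) E
  have hDf := DCohMore.isFinLocFree_dual E (flf_of_rank hE)
  have hDne := not_isZero_dual hr hE
  generalize hD' : (hF E).obj (Coh.structureModule PS) = D at hDf hDne
  obtain ⟨m, hm⟩ := exists_regular (CurveLib.isCoh_of_isFinLocFree hDf)
  obtain ⟨b, φ, hφ, -⟩ := CMRegLib.exists_resolution (CurveLib.isCoh_of_isFinLocFree hDf) m hm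
  obtain ⟨j, hj⟩ : ∃ j, Sigma.ι (fun _ : Fin b => O(-m)) j ≫ φ ≠ 0 := by
    by_contra hall
    push Not at hall
    refine hDne ((IsZero.iff_id_eq_zero _).2 ((cancel_epi φ).1 ?_))
    rw [Category.comp_id, comp_zero]
    exact Sigma.hom_ext _ _ fun i => by rw [hall i, comp_zero]
  subst hD'
  exact ⟨m, exists_pairing _ hj⟩

/-- Some twist has top cohomology. -/
theorem exists_not_HT_top (hn : 0 < n) {r : ℕ} (hr : 0 < r) {E : (PS).Modules}
    (hE : FlatMod.IsFinLocFreeOfRank r E) : ∃ d : ℤ, ¬ CMRegLib.HT E d n := by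
  haveI := CMRegLib.isNoetherian_projSpace (k := k) (n := n)
  have hflf := flf_of_rank hE
  obtain ⟨m, g, hg⟩ := exists_pairing_twist hr hE
  let a : ℤ := -((n : ℤ) + 1)
  have hinv : PicF.IsInvertible (O(a)) := CMRegLib.isInvertible_O _
  obtain ⟨Q, hQ, ⟨η⟩⟩ := AmpleEmb.exists_isInverseOf hinv
  haveI := VBLib.isEquivalence_tensR η
  let em := @asIso _ _ _ _ (CMRegLib.mulMap E (rfl : -m + a = -m + a)) (CMRegLib.isIso_mulMap _ _)
  let h : CohB1.tensorMod E (O(-m + a)) ⟶ O(a) :=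
    em.inv ≫ (CurveLib.tensR (O(a))).map g ≫ (AmpleLib.unitL (O(a))).hom
  have hh : h ≠ 0 := fun h0 => hg (by
    apply (CurveLib.tensR (O(a))).map_injective
    rw [Functor.map_zero, ← cancel_mono (AmpleLib.unitL (O(a))).hom, ← cancel_epi em.inv]
    exact h0.trans (by rw [zero_comp, comp_zero]))
  refine ⟨-m + a, fun hsub => ?_⟩
  obtain ⟨v₀, hv₀, -⟩ := exists_top_gen n k
  obtain ⟨N, hN⟩ : ∃ N, n = N + 1 := ⟨n - 1, by omega⟩
  subst hN
  obtain ⟨z, hz⟩ := surjective_top_of_ne_zero (k := k) (dim_PS rfl)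
    (CMRegLib.isCoh_twistBy (CurveLib.isCoh_of_isFinLocFree hflf) _) hinv hh v₀
  haveI : Subsingleton (Coh.HH (CohB1.ProjSpace (N + 1) k)
    (CohB1.tensorMod E (Twist.twistProjSpace (N + 1) k (-m + a))) (N + 1)) := hsub
  exact hv₀ (by rw [← hz, Subsingleton.elim z 0, map_zero])

theorem untwist_iso (E : (PS).Modules) (t : ℤ) :
    Nonempty (CohB1.tensorMod (CohB1.tensorMod E (O(t))) (O(-t)) ≅ E) := by
  let θ₁ := @asIso _ _ _ _ (CMRegLib.mulMap E (add_neg_cancel t)) (CMRegLib.isIso_mulMap E _)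
  exact ⟨θ₁ ≪≫ CMRegLib.zeroTwistIso E⟩

/-- A retraction from a composite isomorphism, untwisted. -/
theorem exists_untwisted {E : (PS).Modules} {t a : ℤ} (s : O(a) ⟶ CohB1.tensorMod E (O(t)))
    (χ : CohB1.tensorMod E (O(t)) ⟶ O(a)) (hiso : IsIso (s ≫ χ)) :
    ∃ (s' : O(a + -t) ⟶ E) (p : E ⟶ O(a + -t)), s' ≫ p = 𝟙 _ := by
  have e₁ : Nonempty ((CurveLib.tensR (O(-t))).obj (O(a)) ≅ O(a + -t)) :=
    ⟨ProjTwistLib.mulIso (𝒜 := CohB1.polyGrading n k) rfl (CMRegLib.hasUnit _)⟩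
  have θ₀ : Nonempty (CohB1.tensorMod (CohB1.tensorMod E (O(t))) (O(-t)) ≅ E) := untwist_iso E t
  have θ : Nonempty ((CurveLib.tensR (O(-t))).obj (CohB1.tensorMod E (O(t))) ≅ E) := θ₀
  obtain ⟨e₁⟩ := e₁
  obtain ⟨θ⟩ := θ
  generalize CurveLib.tensR (O(-t)) = T at e₁ θ
  haveI := hiso
  haveI h : IsIso ((e₁.inv ≫ T.map s ≫ θ.hom) ≫ θ.inv ≫ T.map χ ≫ e₁.hom) := by
    rw [show (e₁.inv ≫ T.map s ≫ θ.hom) ≫ θ.inv ≫ T.map χ ≫ e₁.hom = e₁.inv ≫ T.map (s ≫ χ) ≫ e₁.hom by simp]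
    infer_instance
  exact ⟨_, (θ.inv ≫ T.map χ ≫ e₁.hom) ≫ inv ((e₁.inv ≫ T.map s ≫ θ.hom) ≫ θ.inv ≫ T.map χ ≫ e₁.hom),
    by rw [← Category.assoc, IsIso.hom_inv_id]⟩

theorem exists_max_twist (hn : 0 < n) {r : ℕ} (hr : 0 < r) {E : (PS).Modules}
    (hE : FlatMod.IsFinLocFreeOfRank r E) :
    ∃ t : ℤ, ¬ CMRegLib.HT E t n ∧ CMRegLib.HT E (t + 1) n := by
  haveI := CMRegLib.isNoetherian_projSpace (k := k) (n := n)
  obtain ⟨d₁, hd₁⟩ := exists_not_HT_top hn hr hE
  obtain ⟨d₀, hd₀⟩ := CMRegLib.eventually_vanish (CurveLib.isCoh_of_isFinLocFree (flf_of_rank hE)) hn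
  obtain ⟨t, ht, htmax⟩ := Int.exists_greatest_of_bdd (P := fun d => ¬ CMRegLib.HT E d n)
    ⟨d₀, fun z hz => le_of_not_ge fun hle => hz (hd₀ z hle)⟩ ⟨d₁, hd₁⟩
  refine ⟨t, ht, ?_⟩
  by_contra hc
  have := htmax _ hc
  omega

/-- A module without middle cohomology has a line bundle summand. -/
theorem exists_line_summand (hn : 0 < n) {r : ℕ} (hr : 0 < r) {E : (PS).Modules}
    (hE : FlatMod.IsFinLocFreeOfRank r E)
    (hmid : ∀ (i : ℕ) (d : ℤ), 0 < i → i < n → CMRegLib.HT E d i) :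
    ∃ (c : ℤ) (s : O(c) ⟶ E) (p : E ⟶ O(c)), s ≫ p = 𝟙 _ := by
  haveI := CMRegLib.isNoetherian_projSpace (k := k) (n := n)
  have hEc : Coh.IsCoh E := CurveLib.isCoh_of_isFinLocFree (flf_of_rank hE)
  obtain ⟨t, ht, ht1⟩ := exists_max_twist hn hr hE
  obtain ⟨s, χ, hiso⟩ := exists_split_normalised hn (CMRegLib.isCoh_twistBy hEc t)
    (fun i d hi hin => CMRegLib.HT.twist (rfl : t + d = t + d) (hmid i _ hi hin))
    (CMRegLib.HT.twist (rfl : t + 1 = t + 1) ht1) ht
  exact ⟨_, exists_untwisted s χ hiso⟩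

end Groth.Agent.HorrocksPnLib
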