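import Groth.Agent.HorrocksPnLib.Main

/-!
# Horrocks' criterion for coherent modules
-/

set_option autoImplicit false
set_option backward.isDefEq.respectTransparency false
set_option linter.style.haveILetI false
set_option maxHeartbeats 400000

universe u

open CategoryTheory CategoryTheory.Limits AlgebraicGeometry TopologicalSpace Opposite
open Groth.Agent.PullbackMod Groth.Agent.DCohLib

noncomputable section

namespace Groth.Agent.HorrocksPnLib

variable {k : Type u} [Field k] {n : ℕ}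

local notation "PS" => CohB1.ProjSpace n k
local notation "O(" d ")" => Twist.twistProjSpace n k d

theorem isZero_of_gg_of_noSections {X : Scheme.{u}} {M : X.Modules} (hg : Curv2.IsGloballyGenerated M)
    (h : Subsingleton (Coh.HH X M 0)) : IsZero M := by
  haveI := h
  haveI : Subsingleton Γ(M, ⊤) := (CurveLib.secOf M).symm.injective.subsingleton
  haveI := CMRegLib.epi_of_surjective_sections (0 : Coh.structureModule X ⟶ M)
    (fun z => ⟨(0 : Γ(Coh.structureModule X, ⊤)), Subsingleton.elim _ _⟩) hg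
  rw [IsZero.iff_id_eq_zero, ← cancel_epi (0 : Coh.structureModule X ⟶ M), zero_comp, zero_comp]

theorem isZero_of_twist {F : (PS).Modules} {t : ℤ} (h : IsZero (CohB1.tensorMod F (O(t)))) : IsZero F := by
  obtain ⟨θ⟩ := untwist_iso F t
  exact ((CurveLib.tensR (O(-t))).map_isZero h).of_iso θ.symm

theorem exists_not_HT_top' (hn : 0 < n) {F : (PS).Modules} (hF : Coh.IsCoh F) (hF0 : ¬ IsZero F)
    (h0 : ∃ n₀ : ℤ, ∀ d, d ≤ n₀ → CMRegLib.HT F d 0)
    (hmid : ∀ (i : ℕ) (d : ℤ), 0 < i → i < n → CMRegLib.HT F d i) : ∃ d : ℤ, ¬ CMRegLib.HT F d n := by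
  by_contra hall
  push Not at hall
  obtain ⟨n₀, hn₀⟩ := h0
  have hreg : Curv2.IsMRegular k n F n₀ := fun i hi hin => by
    rcases lt_or_eq_of_le hin with h | h
    · exact hmid i _ (by omega) h
    · subst h
      exact hall _
  exact hF0 (isZero_of_twist (isZero_of_gg_of_noSections (CMRegLib.globallyGenerated hF hreg) (hn₀ n₀ le_rfl)))

theorem exists_line_summand' (hn : 0 < n) {F : (PS).Modules} (hF : Coh.IsCoh F) (hF0 : ¬ IsZero F)
    (h0 : ∃ n₀ : ℤ, ∀ d, d ≤ n₀ → CMRegLib.HT F d 0)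
    (hmid : ∀ (i : ℕ) (d : ℤ), 0 < i → i < n → CMRegLib.HT F d i) :
    ∃ (c : ℤ) (s : O(c) ⟶ F) (p : F ⟶ O(c)), s ≫ p = 𝟙 _ := by
  haveI := CMRegLib.isNoetherian_projSpace (k := k) (n := n)
  obtain ⟨d₁, hd₁⟩ := exists_not_HT_top' hn hF hF0 h0 hmid
  obtain ⟨d₀, hd₀⟩ := CMRegLib.eventually_vanish hF hn
  obtain ⟨t, ht, htmax⟩ := Int.exists_greatest_of_bdd (P := fun d => ¬ CMRegLib.HT F d n)
    ⟨d₀, fun z hz => le_of_not_ge fun hle => hz (hd₀ z hle)⟩ ⟨d₁, hd₁⟩
  have ht1 : CMRegLib.HT F (t + 1) n := by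
    by_contra hc
    have := htmax _ hc
    omega
  obtain ⟨s, χ, hiso⟩ := exists_split_normalised hn (CMRegLib.isCoh_twistBy hF t)
    (fun i d hi hin => CMRegLib.HT.twist (rfl : t + d = t + d) (hmid i _ hi hin))
    (CMRegLib.HT.twist (rfl : t + 1 = t + 1) ht1) ht
  exact ⟨_, exists_untwisted s χ hiso⟩

theorem HT_retract {A B : (PS).Modules} (i : A ⟶ B) (p : B ⟶ A) (h : i ≫ p = 𝟙 A) {d : ℤ} {q : ℕ}
    (hB : CMRegLib.HT B d q) : CMRegLib.HT A d q := by
  refine subsingleton_HH_retract k ((CurveLib.tensR (O(d))).map i) ((CurveLib.tensR (O(d))).map p) ?_ hB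
  rw [← Functor.map_comp, h, CategoryTheory.Functor.map_id]

/-- Horrocks' criterion for a coherent module. -/
theorem splits_of_vanishing' (hn : 0 < n) : ∀ (r : ℕ) (F : (PS).Modules), VBLib.grk F = r → Coh.IsCoh F →
    (∃ n₀ : ℤ, ∀ d, d ≤ n₀ → CMRegLib.HT F d 0) →
    (∀ (i : ℕ) (d : ℤ), 0 < i → i < n → CMRegLib.HT F d i) →
    ∃ (r : ℕ) (a : Fin r → ℤ), Nonempty (F ≅ ∐ fun j => O(a j)) := by
  haveI := CMRegLib.isNoetherian_projSpace (k := k) (n := n)
  intro r
  induction r using Nat.strong_induction_on with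
  | h r ih =>
    intro F hr hF h0 hmid
    by_cases hF0 : IsZero F
    · exact ⟨0, fun j => j.elim0, ⟨hF0.iso (isZero_sigma_zero _)⟩⟩
    obtain ⟨c, s, p, hsp⟩ := exists_line_summand' hn hF hF0 h0 hmid
    haveI : IsSplitEpi p := ⟨⟨⟨s, hsp⟩⟩⟩
    let S : ShortComplex (PS).Modules := ShortComplex.mk (kernel.ι p) p (kernel.condition p)
    have hS : S.Exact := ShortComplex.exact_of_f_is_kernel _ (kernelIsKernel p)
    let sp : S.Splitting := ShortComplex.Splitting.ofExactOfSection S hS s hsp inferInstance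
    have hK : Coh.IsCoh (kernel p) :=
      (QCohLib.isCoh_kernel_cokernel p hF (CurveLib.isCoh_of_isInvertible (CMRegLib.isInvertible_O c))).1
    have h := VBLib.grk_add sp.shortExact hK (CurveLib.isCoh_of_isInvertible (CMRegLib.isInvertible_O c))
    change VBLib.grk F = VBLib.grk (kernel p) + VBLib.grk (O(c)) at h
    rw [VBLib.grk_of_rank (CurveLib.isFinLocFreeOfRank_one (CMRegLib.isInvertible_O (k := k) (n := n) c)), hr] at h
    have hret : kernel.ι p ≫ sp.r = 𝟙 _ := sp.f_r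
    obtain ⟨r', a, ⟨e⟩⟩ := ih (VBLib.grk (kernel p)) (by omega) (kernel p) rfl hK
      (h0.imp fun _ hn₀ d hd => HT_retract (kernel.ι p) sp.r hret (hn₀ d hd))
      fun i d hi hin => HT_retract (kernel.ι p) sp.r hret (hmid i d hi hin)
    obtain ⟨e'⟩ := nonempty_cons_iso c a e
    exact ⟨r' + 1, _, ⟨sp.isoBinaryBiproduct ≪≫ e'⟩⟩

end Groth.Agent.HorrocksPnLib
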