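import Groth.Agent.HorrocksPnLib.Untwist
import Groth.Agent.ASBunKS.TautCls
import Groth.Agent.DCohLib.SPerf
import Mathlib.LinearAlgebra.Dimension.Free

/-!
# The splitting criterion
-/

set_option autoImplicit false
set_option backward.isDefEq.respectTransparency false
set_option linter.style.haveILetI false
set_option maxHeartbeats 400000

universe u

open CategoryTheory CategoryTheory.Limits AlgebraicGeometry TopologicalSpace Opposite
open Groth.Agent.PullbackMod Groth.Agent.DCohLib

noncomputable section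

namespace Groth.Agent.HorrocksPnLib

variable {k : Type u} [Field k] {n : ℕ}

local notation "PS" => CohB1.ProjSpace n k
local notation "O(" d ")" => Twist.twistProjSpace n k d

theorem isZero_sigma_zero {X : Scheme.{u}} (f : Fin 0 → X.Modules) : IsZero (∐ f) :=
  (IsZero.iff_id_eq_zero _).2 (Sigma.hom_ext _ _ fun j => j.elim0)

/-- On a point every locally free module is free. -/
theorem nonempty_iso_free_of_subsingleton {X : Scheme.{u}} [Subsingleton X] (x : X) {r : ℕ} {E : X.Modules}
    (hE : FlatMod.IsFinLocFreeOfRank r E) : Nonempty (E ≅ FlatMod.freeMod X r) := by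
  obtain ⟨e⟩ := CurveLib.freeAt_of_isFinLocFreeOfRank hE x
  have hfree : FlatMod.IsFinLocFreeOfRank r (FlatMod.freeMod X r) := fun y =>
    ⟨⊤, trivial, ⟨restrictFreeMod _ r⟩⟩
  obtain ⟨f⟩ := CurveLib.freeAt_of_isFinLocFreeOfRank hfree x
  have htop : ∀ z : E.presheaf.stalk x, ∃ s : Γ(E, ⊤), E.presheaf.germ ⊤ x trivial s = z := fun z => by
    obtain ⟨U, hU, s, rfl⟩ := TopCat.Presheaf.exists_germ_eq E.presheaf z
    have hUt : U = ⊤ := Opens.ext (Set.eq_univ_of_forall fun y => Subsingleton.elim x y ▸ hU)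
    subst hUt
    exact ⟨s, rfl⟩
  choose s hs using fun i : Fin r => htop (e.symm (Pi.single i 1))
  let q : FlatMod.freeMod X r ⟶ E := Sigma.desc fun i => DCohLib.secHom E (s i)
  have hsurj : Function.Surjective (stalkLin q x) := by
    rw [← LinearMap.range_eq_top, eq_top_iff]
    refine le_trans (b := Submodule.span (X.presheaf.stalk x) (Set.range fun i : Fin r => e.symm (Pi.single i 1))) ?_
      (Submodule.span_le.2 ?_)
    · exact (((Pi.basisFun (X.presheaf.stalk x) (Fin r)).map e.symm).span_eq.symm.trans_le (le_of_eq (by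
        congr 2
        funext i
        simp))).trans le_rfl
    · rintro _ ⟨i, rfl⟩
      refine ⟨stalkLin (Sigma.ι (fun _ : Fin r => Coh.structureModule X) i) x (LocFreeHomLib.one' x), ?_⟩
      rw [← LinearMap.comp_apply, ← stalkLin_comp, Sigma.ι_desc]
      show _ = e.symm (Pi.single i 1)
      rw [← hs i]
      refine (stalkLin_germ (DCohLib.secHom E (s i)) (U := ⊤) x trivial _).trans ?_
      refine congrArg _ ?_
      refine (DCohLib.secHom_app_one E (s i) ⊤).trans ?_
      exact congr($(E.presheaf.map_id (op ⊤)) (s i))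
  haveI : IsIso q := (isIso_iff_stalk q).2 fun y => by
    obtain rfl := Subsingleton.elim x y
    haveI := Module.Free.of_equiv f.symm
    haveI := Module.Finite.equiv f.symm
    haveI := Module.Free.of_equiv e.symm
    haveI := Module.Finite.equiv e.symm
    exact OrzechProperty.bijective_of_surjective_of_finrank_le (stalkLin q x) hsurj
      (by rw [f.finrank_eq, e.finrank_eq])
  exact ⟨(asIso q).symm⟩

theorem subsingleton_PS_zero : Subsingleton ↥(CohB1.ProjSpace 0 k) := by
  let η := genericPoint ↥(CohB1.ProjSpace 0 k)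
  suffices h : ∀ x, x = η from ⟨fun x y => (h x).trans (h y).symm⟩
  intro x
  have hx : η ∈ closure ({x} : Set ↥(CohB1.ProjSpace 0 k)) := by
    by_contra hc
    have h1 := HilbLib.dim_lt_of_notMem (n := 0) isClosed_closure (fun y _ => by
      rw [show closure {η} = (Set.univ : Set ↥(CohB1.ProjSpace 0 k)) from genericPoint_spec _]
      trivial) hc (lt_of_le_of_lt ((isClosed_closure.isClosedEmbedding_subtypeVal).topologicalKrullDim_le.trans
        (S10829.result k 0).le) (by exact_mod_cast Nat.lt_succ_self 0))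
    haveI : Nonempty (closure ({x} : Set ↥(CohB1.ProjSpace 0 k))) := ⟨⟨x, subset_closure rfl⟩⟩
    haveI : Nonempty (IrreducibleCloseds (closure ({x} : Set ↥(CohB1.ProjSpace 0 k)))) :=
      ⟨⟨closure {⟨x, subset_closure rfl⟩}, isIrreducible_singleton.closure, isClosed_closure⟩⟩
    have h0 : (0 : WithBot ℕ∞) ≤ topologicalKrullDim (closure ({x} : Set ↥(CohB1.ProjSpace 0 k))) := Order.krullDim_nonneg
    exact lt_irrefl (0 : WithBot ℕ∞) (h0.trans_lt h1)
  exact ((specializes_iff_mem_closure.2 hx).antisymm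
    (genericPoint_specializes x)).eq

theorem nonempty_cons_iso (c : ℤ) {b : ℕ} (a : Fin b → ℤ) {K : (PS).Modules}
    (e : K ≅ ∐ fun j : Fin b => O(a j)) :
    Nonempty (K ⊞ O(c) ≅ ∐ fun j : Fin (b + 1) => O((Fin.cons c a : Fin (b + 1) → ℤ) j)) := by
  haveI : HasFiniteBiproducts (PS).Modules := HasFiniteBiproducts.of_hasFiniteProducts
  let f : Fin (b + 1) → (PS).Modules := fun j => O((Fin.cons c a : Fin (b + 1) → ℤ) j)
  have h : (fun j : Fin b => f j.succ) = fun j => O(a j) := funext fun j => by simp [f]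
  refine ⟨biprod.braiding _ _ ≪≫ biprod.mapIso (eqToIso (rfl : O(c) = f 0)) (e ≪≫ (biproduct.isoCoproduct _).symm ≪≫
    eqToIso (congrArg (fun g => ⨁ g) h.symm)) ≪≫ (CMRegLib.biproductSuccIso f).symm ≪≫ biproduct.isoCoproduct f⟩

theorem splits_point (r : ℕ) (E : (CohB1.ProjSpace 0 k).Modules) (hE : FlatMod.IsFinLocFreeOfRank r E) :
    ∃ a : Fin r → ℤ, Nonempty (E ≅ ∐ fun j : Fin r => Twist.twistProjSpace 0 k (a j)) := by
  haveI := subsingleton_PS_zero (k := k)
  obtain ⟨e⟩ := nonempty_iso_free_of_subsingleton (Classical.arbitrary ↥(CohB1.ProjSpace 0 k)) hE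
  exact ⟨fun _ => 0, ⟨e ≪≫ Sigma.mapIso fun _ =>
    @asIso _ _ _ _ (ProjCoh.unitToTwist (CohB1.polyGrading 0 k)) ProjCoh.isIso_unitToTwist⟩⟩

/-- Horrocks' criterion. -/
theorem splits_of_vanishing : ∀ (r : ℕ) (E : (PS).Modules), FlatMod.IsFinLocFreeOfRank r E →
    (∀ (i : ℕ) (d : ℤ), 0 < i → i < n → CMRegLib.HT E d i) →
    ∃ a : Fin r → ℤ, Nonempty (E ≅ ∐ fun j : Fin r => O(a j)) := by
  intro r
  rcases Nat.eq_zero_or_pos n with rfl | hn
  · exact fun E hE _ => splits_point r E hE
  haveI := CMRegLib.isNoetherian_projSpace (k := k) (n := n)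
  induction r with
  | zero =>
    intro E hE _
    haveI := (CurveLib.isCoh_of_isFinLocFree (flf_of_rank hE)).1
    exact ⟨fun j => j.elim0, ⟨(VBLib.isZero_of_grk_zero (CurveLib.isCoh_of_isFinLocFree (flf_of_rank hE))
      (VBLib.isTF_of_rank hE) (VBLib.grk_of_rank hE)).iso (isZero_sigma_zero _)⟩⟩
  | succ r ih =>
    intro E hE hmid
    obtain ⟨c, s, p, hsp⟩ := exists_line_summand hn (Nat.succ_pos r) hE hmid
    haveI : IsSplitEpi p := ⟨⟨⟨s, hsp⟩⟩⟩
    let S : ShortComplex (PS).Modules := ShortComplex.mk (kernel.ι p) p (kernel.condition p)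
    have hS : S.Exact := ShortComplex.exact_of_f_is_kernel _ (kernelIsKernel p)
    let sp : S.Splitting := ShortComplex.Splitting.ofExactOfSection S hS s hsp inferInstance
    have hK : FlatMod.IsFinLocFree (kernel p) :=
      DCohLib.isFinLocFree_of_retract (kernel.ι p) sp.r sp.f_r (flf_of_rank hE)
    obtain ⟨r', hr'⟩ := ASBunKS.exists_rank' hK
    have hrr : r' = r := by
      have hc1 := CurveLib.isFinLocFreeOfRank_one (CMRegLib.isInvertible_O (k := k) (n := n) c)
      have h := VBLib.grk_add sp.shortExact (CurveLib.isCoh_of_isFinLocFree hK)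
        (CurveLib.isCoh_of_isInvertible (CMRegLib.isInvertible_O c))
      change VBLib.grk E = VBLib.grk (kernel p) + VBLib.grk (O(c)) at h
      rw [VBLib.grk_of_rank hE, VBLib.grk_of_rank hr', VBLib.grk_of_rank hc1] at h
      omega
    subst hrr
    obtain ⟨a, ⟨e⟩⟩ := ih (kernel p) hr' fun i d hi hin =>
      subsingleton_HH_retract k ((CurveLib.tensR (O(d))).map (kernel.ι p)) ((CurveLib.tensR (O(d))).map sp.r)
        (by rw [← Functor.map_comp, show kernel.ι p ≫ sp.r = 𝟙 _ from sp.f_r, CategoryTheory.Functor.map_id])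
        (hmid i d hi hin)
    obtain ⟨e'⟩ := nonempty_cons_iso c a e
    exact ⟨_, ⟨sp.isoBinaryBiproduct ≪≫ e'⟩⟩

/-- The converse. -/
theorem vanishing_of_iso {r : ℕ} {E : (PS).Modules} {a : Fin r → ℤ} (e : E ≅ ∐ fun j : Fin r => O(a j))
    {i : ℕ} (d : ℤ) (hi : 0 < i) (hin : i < n) : CMRegLib.HT E d i :=
  (CMRegLib.HT.sigma _ fun _ => CMRegLib.HT_twist _ _ hi (Or.inr hin.ne)).iso e.symm

end Groth.Agent.HorrocksPnLib
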