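import Groth.Agent.HorrocksPnLib.Core
import Groth.Agent.ShBCLib.Finrank
import Groth.Agent.ASBunKS.TensorPowSum
import Groth.Agent.DCohLib.TensorPerf
import Mathlib.RingTheory.Flat.FaithfullyFlat.Basic

/-!
# Cohomology of modules on a Severi–Brauer scheme over the splitting field
-/

set_option autoImplicit false
set_option backward.isDefEq.respectTransparency false
set_option linter.style.haveILetI false
set_option maxHeartbeats 400000

universe u

open CategoryTheory CategoryTheory.Limits AlgebraicGeometry TopologicalSpace Opposite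
open scoped TensorProduct

noncomputable section

namespace Groth.Agent.HorrocksPnLib

variable {k : Type u} [Field k] {X : Scheme.{u}} {f : X ⟶ Spec (CommRingCat.of k)} {m : ℕ}
  {K : Type u} [Field K] [Algebra k K] (e : BrSev.Splitting f K m)

/-- The projection from projective space. -/
abbrev gmap : CohB1.ProjSpace m K ⟶ X := e.iso.inv ≫ BrSev.proj f K

theorem isPullback_gmap :
    IsPullback (gmap e) (CohB1.ProjSpace.toSpec m K) f (Spec.map (CommRingCat.ofHom (algebraMap k K))) :=
  (IsPullback.of_hasPullback f (Spec.map (CommRingCat.ofHom (algebraMap k K)))).of_iso e.iso (Iso.refl _) (Iso.refl _)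
    (Iso.refl _) (by simp [gmap]) (by rw [Iso.refl_hom, Category.comp_id]; exact e.comm.symm) (by simp) (by simp)

/-- Cohomology vanishes iff it vanishes over the splitting field. -/
theorem subsingleton_HH_gmap_iff [IsProper f] (M : X.Modules) [Coh.IsQCoh M] (i : ℕ) :
    Subsingleton (Coh.HH (CohB1.ProjSpace m K) ((Scheme.Modules.pullback (gmap e)).obj M) i) ↔
      Subsingleton (Coh.HH X M i) := by
  letI : X.Over (Spec (CommRingCat.of k)) := ⟨f⟩
  haveI : IsProper (X ↘ Spec (CommRingCat.of k)) := inferInstanceAs (IsProper f)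
  haveI := EulerIneqLib.isNoetherian_proper (X := X) k
  let a : k ≃+* Γ(Spec (CommRingCat.of k), ⊤) :=
    (Scheme.ΓSpecIso (CommRingCat.of k)).symm.commRingCatIsoToRingEquiv
  let b : K ≃+* Γ(Spec (CommRingCat.of K), ⊤) :=
    (Scheme.ΓSpecIso (CommRingCat.of K)).symm.commRingCatIsoToRingEquiv
  obtain ⟨ε⟩ := FlatBC.nonempty_affine (isPullback_gmap e) M a b
    (fun x => (congr($(Scheme.ΓSpecIso_inv_naturality (CommRingCat.ofHom (algebraMap k K))) x)).symm) i
  refine ⟨fun h => ?_, fun h => ?_⟩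
  · haveI := h
    haveI := ε.toEquiv.subsingleton
    exact Module.FaithfullyFlat.lTensor_reflects_triviality k K _
  · haveI := h
    refine @Equiv.subsingleton _ _ ε.toEquiv.symm ⟨fun x y => ?_⟩
    have hz : ∀ z, z = (0 : K ⊗[k] Coh.HH X M i) := fun z => by
      induction z using TensorProduct.induction_on with
      | zero => rfl
      | tmul c w => rw [Subsingleton.elim w 0, TensorProduct.tmul_zero]
      | add u v hu hv => rw [hu, hv, add_zero]
    rw [hz x, hz y]

theorem nonempty_gPull (M : X.Modules) :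
    Nonempty ((Scheme.Modules.pullback (gmap e)).obj M ≅
      (Scheme.Modules.pullback e.iso.inv).obj (BrSev.bcMod f K M)) :=
  ⟨((Scheme.Modules.pullbackComp e.iso.inv (BrSev.proj f K)).app M).symm⟩

theorem nonempty_back (j : ℤ) :
    Nonempty ((Scheme.Modules.pullback e.iso.inv).obj (e.twist j) ≅ Twist.twistProjSpace m K j) :=
  ⟨(Scheme.Modules.pullbackComp e.iso.inv e.iso.hom).app _ ≪≫
    (Scheme.Modules.pullbackCongr e.iso.inv_hom_id).app _ ≪≫ (Scheme.Modules.pullbackId _).app _⟩

theorem nonempty_forth (M : X.Modules) :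
    Nonempty (BrSev.bcMod f K M ≅
      (Scheme.Modules.pullback e.iso.hom).obj ((Scheme.Modules.pullback (gmap e)).obj M)) :=
  ⟨((Scheme.Modules.pullbackComp e.iso.hom (gmap e)).app M ≪≫
    (Scheme.Modules.pullbackCongr (e.iso.hom_inv_id_assoc (BrSev.proj f K))).app M).symm⟩

theorem nonempty_gPull_type {W : X.Modules} {j : ℤ} {r : ℕ} (h : BrSev.IsTwPow e j r W) :
    Nonempty ((Scheme.Modules.pullback (gmap e)).obj W ≅ BrSev.pow (Twist.twistProjSpace m K j) r) := by
  obtain ⟨φ⟩ := h
  obtain ⟨γ⟩ := nonempty_gPull e W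
  obtain ⟨β⟩ := nonempty_back e j
  haveI : (Scheme.Modules.pullback e.iso.inv).Additive := Functor.additive_of_preserves_binary_products _
  exact ⟨γ ≪≫ (Scheme.Modules.pullback e.iso.inv).mapIso φ ≪≫
    ASBunKS.mapPow (Scheme.Modules.pullback e.iso.inv) (e.twist j) r ≪≫ ASBunKS.powIso β r⟩

/-- Twisting by a module of type `O(d)`. -/
theorem nonempty_gPull_tensor (E : X.Modules) {W : X.Modules} {d : ℤ} {r : ℕ} (h : BrSev.IsTwPow e d r W) :
    Nonempty ((Scheme.Modules.pullback (gmap e)).obj (CohB1.tensorMod E W) ≅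
      BrSev.pow (CohB1.tensorMod ((Scheme.Modules.pullback (gmap e)).obj E) (Twist.twistProjSpace m K d)) r) := by
  obtain ⟨φ⟩ := nonempty_gPull_type e h
  haveI : ((DCoh.tensorBi (X := CohB1.ProjSpace m K)).obj ((Scheme.Modules.pullback (gmap e)).obj E)).Additive :=
    ModTensor.additive_tensorBi_obj (CohB1.ProjSpace m K).sheaf _
  exact ⟨AmpleLib.pullTensor (gmap e) E W ≪≫ AmpleLib.tIso (Iso.refl _) φ ≪≫
    ASBunKS.mapPow ((DCoh.tensorBi (X := CohB1.ProjSpace m K)).obj ((Scheme.Modules.pullback (gmap e)).obj E))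
      (Twist.twistProjSpace m K d) r⟩

/-- Vanishing for a power. -/
theorem subsingleton_HH_pow_iff {Y : Scheme.{u}} [Y.Over (Spec (CommRingCat.of K))] (M : Y.Modules) {r : ℕ}
    (hr : 0 < r) (i : ℕ) : Subsingleton (Coh.HH Y (BrSev.pow M r) i) ↔ Subsingleton (Coh.HH Y M i) := by
  classical
  let p : Fin r → (BrSev.pow M r ⟶ M) := fun j => Sigma.desc fun i => if i = j then 𝟙 M else 0
  refine ⟨fun h => subsingleton_HH_retract K (Sigma.ι (fun _ : Fin r => M) ⟨0, hr⟩) (p ⟨0, hr⟩)
    (by simp [p]) h, fun h => subsingleton_of_forall_eq 0 fun z => ?_⟩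
  have htot : ∑ j, p j ≫ Sigma.ι (fun _ : Fin r => M) j = 𝟙 _ := by
    refine Sigma.hom_ext _ _ fun i => ?_
    simp [p, Preadditive.comp_sum, ite_comp, Finset.sum_ite_eq]
  haveI := h
  rw [← hMap_id K _ i z, ← htot, hMap_sum]
  refine Finset.sum_eq_zero fun j _ => ?_
  rw [hMap_comp, Subsingleton.elim (CurveLib.hMap (k := K) (p j) i z) 0, map_zero]

theorem subsingleton_twist_iff [IsProper f] {E W : X.Modules} (hE : FlatMod.IsFinLocFree E)
    (hW : FlatMod.IsFinLocFree W) {d : ℤ} {r : ℕ} (hr : 0 < r) (h : BrSev.IsTwPow e d r W) (i : ℕ) :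
    CMRegLib.HT ((Scheme.Modules.pullback (gmap e)).obj E) d i ↔ Subsingleton (Coh.HH X (CohB1.tensorMod E W) i) := by
  haveI : Coh.IsQCoh (CohB1.tensorMod E W) :=
    (PullbackMod.isQCoh_and_isFP_of_isFinLocFree _ (DCohLib.isFinLocFree_tensor hE hW)).1
  obtain ⟨φ⟩ := nonempty_gPull_tensor e E h
  rw [← subsingleton_HH_gmap_iff e (CohB1.tensorMod E W) i]
  refine (subsingleton_HH_pow_iff (K := K) _ hr i).symm.trans ⟨fun h' => ?_, fun h' => ?_⟩
  · exact @ProjCoh.subsingleton_of_iso _ _ _ φ.symm i h'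
  · exact @ProjCoh.subsingleton_of_iso _ _ _ φ i h'

end Groth.Agent.HorrocksPnLib
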