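import Groth.Agent.HorrocksPnLib.TopSurj
import Groth.Agent.VBLib.Cst
import Groth.Agent.VBLib.Twist
import Groth.Agent.CMRegLib.Res
import Groth.Agent.ProjTwist.Top
import Groth.Agent.PicProjLib.Chart
import Groth.Agent.S10829

/-!
# A line bundle summand from the top cohomology
-/

set_option autoImplicit false
set_option backward.isDefEq.respectTransparency false
set_option linter.style.haveILetI false
set_option maxHeartbeats 400000

universe u

open CategoryTheory CategoryTheory.Limits AlgebraicGeometry TopologicalSpace Opposite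
open Groth.Agent.PullbackMod Groth.Agent.DCohLib

noncomputable section

namespace Groth.Agent.HorrocksPnLib

section HMap

variable (k : Type u) [Field k] {X : Scheme.{u}} [X.Over (Spec (CommRingCat.of k))]

theorem hMap_comp {A B C : X.Modules} (f : A ⟶ B) (g : B ⟶ C) (n : ℕ) (z : Coh.HH X A n) :
    CurveLib.hMap (k := k) (f ≫ g) n z = CurveLib.hMap (k := k) g n (CurveLib.hMap (k := k) f n z) :=
  (congrArg (fun h => Sheaf.H.map h n z) ((QCohLib.toAbF X).map_comp f g)).trans (Sheaf.H.map_comp_apply _ _ z)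

theorem hMap_add {A B : X.Modules} (f g : A ⟶ B) (n : ℕ) (z : Coh.HH X A n) :
    CurveLib.hMap (k := k) (f + g) n z = CurveLib.hMap (k := k) f n z + CurveLib.hMap (k := k) g n z :=
  (congrArg (fun h => Sheaf.H.map h n z) ((QCohLib.toAbF X).map_add (f := f) (g := g))).trans
    (Sheaf.H.map_add_apply _ _ z)

theorem hMap_id (A : X.Modules) (n : ℕ) (z : Coh.HH X A n) : CurveLib.hMap (k := k) (𝟙 A) n z = z :=
  (congrArg (fun h => Sheaf.H.map h n z) ((QCohLib.toAbF X).map_id A)).trans (Sheaf.H.map_id_apply _)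

theorem hMap_zero (A B : X.Modules) (n : ℕ) (z : Coh.HH X A n) : CurveLib.hMap (k := k) (0 : A ⟶ B) n z = 0 := by
  have h := hMap_add k (0 : A ⟶ B) 0 n z
  rwa [add_zero, left_eq_add] at h

theorem hMap_cst (A : X.Modules) (c : k) (n : ℕ) (z : Coh.HH X A n) :
    CurveLib.hMap (k := k) (VBLib.cst k A c : A ⟶ A) n z = c • z :=
  congrArg (fun h => Sheaf.H.map h n z) (FactorOne.toAb_mulEnd A _)

theorem hMap_sum {A B : X.Modules} {ι : Type} (s : Finset ι) (f : ι → (A ⟶ B)) (n : ℕ) (z : Coh.HH X A n) :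
    CurveLib.hMap (k := k) (∑ i ∈ s, f i) n z = ∑ i ∈ s, CurveLib.hMap (k := k) (f i) n z :=
  map_sum (AddMonoidHom.mk' (fun g : A ⟶ B => CurveLib.hMap (k := k) g n z) fun f g => hMap_add k f g n z) f s

/-- Functionals on the top cohomology of a power of a line are induced by maps to the line. -/
theorem exists_desc_of_functional {L : X.Modules} {N b : ℕ} {v₀ : Coh.HH X L N}
    (hv : ∀ w : Coh.HH X L N, ∃ c : k, c • v₀ = w)
    (ψ : Coh.HH X (∐ fun _ : Fin b => L) N →ₗ[k] k) :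
    ∀ z, CurveLib.hMap (k := k) (Sigma.desc fun j : Fin b =>
      (VBLib.cst k L (ψ (CurveLib.hMap (k := k) (Sigma.ι (fun _ : Fin b => L) j) N v₀)) : L ⟶ L)) N z =
      ψ z • v₀ := by
  classical
  intro z
  let p : Fin b → ((∐ fun _ : Fin b => L) ⟶ L) := fun j => Sigma.desc fun i => if i = j then 𝟙 L else 0
  have htot : ∑ j, p j ≫ Sigma.ι (fun _ : Fin b => L) j = 𝟙 _ := by
    refine Sigma.hom_ext _ _ fun i => ?_
    simp [p, Preadditive.comp_sum, ite_comp, Finset.sum_ite_eq]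
  have hz : z = ∑ j, CurveLib.hMap (k := k) (Sigma.ι (fun _ : Fin b => L) j) N (CurveLib.hMap (k := k) (p j) N z) := by
    conv_lhs => rw [← hMap_id k _ N z, ← htot, hMap_sum]
    exact Finset.sum_congr rfl fun j _ => hMap_comp k _ _ N z
  choose d hd using fun j => hv (CurveLib.hMap (k := k) (p j) N z)
  rw [hz, map_sum, map_sum, Finset.sum_smul]
  refine Finset.sum_congr rfl fun j _ => ?_
  rw [← hd j, map_smul, map_smul, map_smul, ← hMap_comp, Sigma.ι_desc, hMap_cst, smul_smul, smul_eq_mul]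

include k in
/-- A retract of a module without cohomology has none. -/
theorem subsingleton_HH_retract {A B : X.Modules} (i : A ⟶ B) (p : B ⟶ A) (h : i ≫ p = 𝟙 A) {n : ℕ}
    (hB : Subsingleton (Coh.HH X B n)) : Subsingleton (Coh.HH X A n) := by
  refine ⟨fun x y => ?_⟩
  rw [← hMap_id k A n x, ← hMap_id k A n y, ← h, hMap_comp, hMap_comp]
  exact congrArg _ (Subsingleton.elim _ _)

end HMap

variable {k : Type u} [Field k] {n : ℕ}

local notation "PS" => CohB1.ProjSpace n k
local notation "O(" d ")" => Twist.twistProjSpace n k d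

instance isProper_PS : IsProper (PS ↘ Spec (CommRingCat.of k)) := CompleteCurve.isProper_toSpec n k

theorem dim_PS {N : ℕ} (hN : n = N + 1) :
    topologicalKrullDim ↥(CohB1.ProjSpace n k) ≤ ((N + 1 : ℕ) : WithBot ℕ∞) := by
  rw [S10829.result k n, hN]

/-- A generator of the top cohomology of the first negative twist. -/
theorem exists_top_gen (n : ℕ) (k : Type u) [Field k] :
    ∃ v₀ : Coh.HH (CohB1.ProjSpace n k) (Twist.twistProjSpace n k (-((n : ℤ) + 1))) n,
      v₀ ≠ 0 ∧ ∀ w, ∃ c : k, c • v₀ = w := by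
  obtain ⟨e⟩ := ProjTwist.nonempty_top n k 0
  rw [show (-((n : ℤ) + 1 + (0 : ℕ))) = -((n : ℤ) + 1) by simp] at e
  have h1 : Module.finrank k (Coh.HH (CohB1.ProjSpace n k) (Twist.twistProjSpace n k (-((n : ℤ) + 1))) n) = 1 := by
    rw [e.finrank_eq, MvPolynomial.homogeneousSubmodule_zero, Submodule.one_eq_span,
      finrank_span_singleton one_ne_zero]
  exact finrank_eq_one_iff'.1 h1

/-- The key step: a nonzero top cohomology class gives a summand. -/
theorem exists_split_normalised (hn : 0 < n) {E : (PS).Modules} (hE : Coh.IsCoh E)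
    (hmid : ∀ (i : ℕ) (d : ℤ), 0 < i → i < n → CMRegLib.HT E d i) (h1 : CMRegLib.HT E 1 n)
    (h0 : ¬ Subsingleton (Coh.HH PS E n)) :
    ∃ (s : O(-((n : ℤ) + 1)) ⟶ E) (χ : E ⟶ O(-((n : ℤ) + 1))), IsIso (s ≫ χ) := by
  obtain ⟨N, hN⟩ : ∃ N, n = N + 1 := ⟨n - 1, by omega⟩
  haveI := CMRegLib.isNoetherian_projSpace (k := k) (n := n)
  have hreg : Curv2.IsMRegular k n E ((n : ℤ) + 1) := by
    intro i hi hin
    rcases lt_or_eq_of_le hin with h | h
    · exact hmid i _ (by omega) h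
    · subst h
      simpa using h1
  obtain ⟨b, φ, hφ, -⟩ := CMRegLib.exists_resolution hE _ hreg
  have hinv : PicF.IsInvertible (O(-((n : ℤ) + 1))) := CMRegLib.isInvertible_O _
  have hker : Coh.IsCoh (kernel φ) := (QCohLib.isCoh_kernel_cokernel φ
    (CMRegLib.isCoh_sigma_fin _ fun _ => CurveLib.isCoh_of_isInvertible hinv) hE).1
  obtain ⟨v₀, hv₀, hv⟩ := exists_top_gen n k
  have hsurj : Function.Surjective (CurveLib.hMap (k := k) φ n) := by
    subst hN
    exact hMap_top_surjective (dim_PS rfl) φ isClosed_empty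
      (dim_le_of_notMem (dim_PS rfl) isClosed_empty id)
      (fun x _ => (PullbackMod.epi_iff_stalk φ).1 hφ x)
  have hR : LinearMap.range (CurveLib.hMap (k := k) (kernel.ι φ) n) < ⊤ := by
    refine lt_top_iff_ne_top.2 fun htop => h0 (subsingleton_of_forall_eq 0 fun w => ?_)
    obtain ⟨z, rfl⟩ := hsurj w
    obtain ⟨y, rfl⟩ := LinearMap.range_eq_top.1 htop z
    rw [← hMap_comp, kernel.condition, hMap_zero]
  obtain ⟨ψ, hψ, hψR⟩ := Submodule.exists_le_ker_of_lt_top _ hR
  have hkey := exists_desc_of_functional k hv ψ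
  have hzero : kernel.ι φ ≫ (Sigma.desc fun j : Fin b => (VBLib.cst k (O(-((n : ℤ) + 1)))
      (ψ (CurveLib.hMap (k := k) (Sigma.ι (fun _ : Fin b => O(-((n : ℤ) + 1))) j) n v₀)) :
        O(-((n : ℤ) + 1)) ⟶ O(-((n : ℤ) + 1)))) = 0 := by
    subst hN
    haveI : Nontrivial (Coh.HH (CohB1.ProjSpace (N + 1) k) _ (N + 1)) := ⟨⟨v₀, 0, hv₀⟩⟩
    refine eq_zero_of_hMap_top (k := k) (dim_PS rfl) hker hinv fun z => ?_
    rw [hMap_comp, hkey, LinearMap.mem_ker.1 (hψR ⟨z, rfl⟩), zero_smul]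
  obtain ⟨j, hj⟩ : ∃ j, ψ (CurveLib.hMap (k := k) (Sigma.ι (fun _ : Fin b => O(-((n : ℤ) + 1))) j) n v₀) ≠ 0 := by
    by_contra hall
    push Not at hall
    refine hψ (LinearMap.ext fun z => ?_)
    have h := hkey z
    simp only [hall, VBLib.cst_zero] at h
    rw [show (Sigma.desc fun _ : Fin b => (0 : O(-((n : ℤ) + 1)) ⟶ O(-((n : ℤ) + 1)))) = 0 from
      Sigma.hom_ext _ _ fun i => by simp, hMap_zero] at h
    exact (smul_eq_zero.1 h.symm).resolve_right hv₀
  refine ⟨Sigma.ι (fun _ : Fin b => O(-((n : ℤ) + 1))) j ≫ φ, Abelian.epiDesc φ _ hzero, ?_⟩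
  rw [Category.assoc, Abelian.comp_epiDesc, Sigma.ι_desc]
  exact VBLib.isIso_cst k _ hj

end Groth.Agent.HorrocksPnLib
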