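import Groth.Agent.HorrocksPnLib.SBTransfer
import Groth.Agent.HorrocksPnLib.Main
import Groth.Agent.ASBunKS.SBBase
import Groth.Agent.S14200

/-!
# Absolute splitness on a Severi–Brauer scheme
-/

set_option autoImplicit false
set_option backward.isDefEq.respectTransparency false
set_option linter.style.haveILetI false
set_option maxHeartbeats 400000
set_option linter.unusedSectionVars false

universe u

open CategoryTheory CategoryTheory.Limits AlgebraicGeometry TopologicalSpace Opposite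
open Groth.Agent.BrauerClassLib
open scoped TensorProduct

noncomputable section

namespace Groth.Agent.HorrocksPnLib

variable {k : Type u} [Field k] {X : Scheme.{u}} {f : X ⟶ Spec (CommRingCat.of k)} [IsProper f]
  {K : Type u} [Field K] [Algebra k K] [IsAlgClosure k K]

/-- Multiples of the period are degrees of invertible modules. -/
theorem exists_invertible_of_dvd (A : Type u) [Ring A] [Algebra k A] [Algebra.IsCentral k A] [IsSimpleRing A]
    {n : ℕ} (hn : 0 < n) (hA : Module.finrank k A = n * n) (hX : BrSev.IsSBOf k A (n * n - n) f)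
    {p : ℕ} (hp : CSAGal.IsPeriod k A p) (e : BrSev.Splitting f K (n - 1)) {l : ℤ} (hl : (p : ℤ) ∣ l) :
    ∃ L : X.Modules, PicF.IsInvertible L ∧ BrSev.IsTwPow e l 1 L := by
  haveI : IsAlgClosed K := IsAlgClosure.isAlgClosed k
  haveI : Module.Finite k A := Module.finite_of_finrank_pos (by rw [hA]; positivity)
  obtain ⟨W, r, hW, hWi, hr, hWt⟩ := S14200.result k f (n - 1) K e l
  obtain ⟨h1, h2⟩ := csa_pi_fin (k := k) fun _ : Fin l.natAbs => A
  obtain ⟨c, hc⟩ := Int.natCast_dvd.1 hl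
  have hr1 : r = 1 := ASBunKS.isIndex_eq_one (ASBunKS.isIndex_tpow hn hA hX e hW hWi hr hWt) (by
    rw [cls_tpow, hc, pow_mul, (splits_tpow_iff A p).1 hp.2.1, one_pow])
  subst hr1
  exact ⟨W, ASBunKS.isInvertible_of_type e hW hWt, hWt⟩

variable {m : ℕ} (e : BrSev.Splitting f K m) {E : X.Modules}

theorem absSplit_of_HT (hE : FlatMod.IsFinLocFree E)
    (h : ∀ (i : ℕ) (d : ℤ), 0 < i → i < m → CMRegLib.HT ((Scheme.Modules.pullback (gmap e)).obj E) d i) :
    ∃ (s : ℕ) (Ls : Fin s → (BrSev.bc f K).Modules), (∀ i, PicF.IsInvertible (Ls i)) ∧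
        Nonempty (BrSev.bcMod f K E ≅ ∐ Ls) := by
  obtain ⟨r, hr⟩ := ASBunKS.exists_rank' (PullbackMod.isFinLocFree_pullback (gmap e) E hE)
  obtain ⟨a, ⟨φ⟩⟩ := splits_of_vanishing r _ hr h
  obtain ⟨ψ⟩ := nonempty_forth e E
  exact ⟨r, fun i => e.twist (a i),
    fun i => PicLoc.isInvertible_pullback e.iso.hom (CMRegLib.isInvertible_O (k := K) (n := m) (a i)),
    ⟨ψ ≪≫ (Scheme.Modules.pullback e.iso.hom).mapIso φ ≪≫ PreservesCoproduct.iso (Scheme.Modules.pullback e.iso.hom) _⟩⟩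

theorem HT_of_absSplit {s : ℕ} {Ls : Fin s → (BrSev.bc f K).Modules} (hLs : ∀ i, PicF.IsInvertible (Ls i))
    (φ : BrSev.bcMod f K E ≅ ∐ Ls) {i : ℕ} (d : ℤ) (hi : 0 < i) (him : i < m) :
    CMRegLib.HT ((Scheme.Modules.pullback (gmap e)).obj E) d i := by
  obtain ⟨γ⟩ := nonempty_gPull e E
  refine (CMRegLib.HT.sigma (fun j => (Scheme.Modules.pullback e.iso.inv).obj (Ls j)) fun j => ?_).iso
    (γ ≪≫ (Scheme.Modules.pullback e.iso.inv).mapIso φ ≪≫ PreservesCoproduct.iso (Scheme.Modules.pullback e.iso.inv) _).symm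
  obtain ⟨c, ⟨ε⟩⟩ := PicProjLib.exists_iso_twist (PicLoc.isInvertible_pullback e.iso.inv (hLs j))
  exact (CMRegLib.HT_twist c d hi (Or.inr him.ne)).iso ε.symm

theorem HT_iff_subsingleton (hE : FlatMod.IsFinLocFree E) {L W : X.Modules} (hL : PicF.IsInvertible L)
    (hW : FlatMod.IsFinLocFree W) {l j : ℤ} {r : ℕ} (hr : 0 < r) (hLt : BrSev.IsTwPow e l 1 L)
    (hWt : BrSev.IsTwPow e j r W) (i : ℕ) :
    CMRegLib.HT ((Scheme.Modules.pullback (gmap e)).obj E) (l + j) i ↔
      Subsingleton (Coh.HH X (CohB1.tensorMod (CohB1.tensorMod E L) W) i) := by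
  refine (subsingleton_twist_iff e hE (DCohLib.isFinLocFree_tensor (CurveLib.isFinLocFree_of_isInvertible hL) hW)
    (by omega : 0 < 1 * r) (ASBunKS.isTwPow_tensor f e hLt hWt) i).trans ⟨fun h => ?_, fun h => ?_⟩
  · exact @ProjCoh.subsingleton_of_iso _ _ _ (AmpleLib.assoc E L W).symm i h
  · exact @ProjCoh.subsingleton_of_iso _ _ _ (AmpleLib.assoc E L W) i h

end Groth.Agent.HorrocksPnLib
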