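import Groth.Agent.CurveLib.CurveVanish
import Groth.Agent.VBLib.Deg
import Groth.Agent.HilbLib.Poly

/-!
# Maps on top cohomology
-/

set_option autoImplicit false
set_option backward.isDefEq.respectTransparency false
set_option linter.style.haveILetI false
set_option maxHeartbeats 400000

universe u

open CategoryTheory CategoryTheory.Limits AlgebraicGeometry TopologicalSpace Opposite
open Groth.Agent.PullbackMod Groth.Agent.DCohLib

noncomputable section

namespace Groth.Agent.HorrocksPnLib

variable {X : Scheme.{u}} {k : Type u} [Field k] [X.Over (Spec (CommRingCat.of k))]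
  [IsProper (X ↘ Spec (CommRingCat.of k))] {N : ℕ}
  (hdim : topologicalKrullDim X ≤ ((N + 1 : ℕ) : WithBot ℕ∞))

include hdim in
/-- A map that is surjective on stalks outside a smaller closed set is surjective on top cohomology. -/
theorem hMap_top_surjective {A B : X.Modules} (f : A ⟶ B) {C : Set X} (hC : IsClosed C)
    (hd : topologicalKrullDim C ≤ (N : WithBot ℕ∞)) (h : ∀ x, x ∉ C → Function.Surjective (stalkLin f x)) :
    Function.Surjective (CurveLib.hMap (k := k) f (N + 1)) := by
  haveI := EulerIneqLib.isNoetherian_proper (X := X) k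
  let S₁ : ShortComplex X.Modules := ShortComplex.mk (kernel.ι f) (Abelian.factorThruImage f)
    ((cancel_mono (Abelian.image.ι f)).1 (by rw [Category.assoc, Abelian.image.fac, kernel.condition, zero_comp]))
  have hS₁ : S₁.ShortExact := ShortComplex.ShortExact.mk'
    (ShortComplex.exact_of_f_is_kernel _ (KernelFork.IsLimit.ofι' (kernel.ι f) S₁.zero
      fun g hg => ⟨kernel.lift f g (by rw [← Abelian.image.fac f, ← Category.assoc, hg, zero_comp]),
        kernel.lift_ι _ _ _⟩)) inferInstance inferInstance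
  let S₂ : ShortComplex X.Modules := DevLib.cokerSeq (Abelian.image.ι f)
  have hS₂ : S₂.ShortExact := DevLib.cokerSeq_shortExact _
  haveI h3 : Subsingleton (Coh.HH X S₂.X₃ (N + 1)) := by
    refine CurveLib.subsingleton_HH_of_support _ hC (fun x hx => ?_) (d := N) hd (Nat.lt_succ_self N)
    by_contra hxC
    refine hx (DevLib.subsingleton_coker (Abelian.image.ι f) fun z => ?_)
    obtain ⟨w, rfl⟩ := h x hxC z
    refine ⟨stalkLin (Abelian.factorThruImage f) x w, ?_⟩
    rw [← LinearMap.comp_apply, ← stalkLin_comp, Abelian.image.fac]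
  haveI hker : Subsingleton (Coh.HH X S₁.X₁ (N + 2)) :=
    CurveLib.subsingleton_HH_of_dim _ (d := N + 1) hdim (Nat.lt_succ_self _)
  have h1 : Function.Surjective (CurveLib.hMap (k := k) S₁.g (N + 1)) := fun y => by
    have hy : y ∈ LinearMap.ker (CurveLib.hδ (k := k) hS₁ (N + 1)) :=
      LinearMap.mem_ker.2 (Subsingleton.elim (α := Coh.HH X S₁.X₁ (N + 2)) _ _)
    rw [← CurveLib.range_hMap_g] at hy
    exact hy
  have h2 : Function.Surjective (CurveLib.hMap (k := k) S₂.f (N + 1)) := fun y => by
    have hy : y ∈ LinearMap.ker (CurveLib.hMap (k := k) S₂.g (N + 1)) :=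
      LinearMap.mem_ker.2 (Subsingleton.elim (α := Coh.HH X S₂.X₃ (N + 1)) _ _)
    rw [← CurveLib.range_hMap_f hS₂] at hy
    exact hy
  intro y
  obtain ⟨a, rfl⟩ := h2 y
  obtain ⟨b, rfl⟩ := h1 a
  refine ⟨b, ?_⟩
  show Sheaf.H.map _ (N + 1) b = Sheaf.H.map _ (N + 1) (Sheaf.H.map _ (N + 1) b)
  rw [← Sheaf.H.map_comp_apply, ← Functor.map_comp]
  exact congrArg (fun g => Sheaf.H.map ((QCohLib.toAbF X).map g) (N + 1) b) (Abelian.image.fac f).symm

omit [IsProper (X ↘ Spec (CommRingCat.of k))] in
include hdim in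
/-- A closed set missing the generic point has smaller dimension. -/
theorem dim_le_of_notMem [IsIntegral X] {C : Set X} (hC : IsClosed C) (h : genericPoint X ∉ C) :
    topologicalKrullDim C ≤ (N : WithBot ℕ∞) := by
  have hlt : topologicalKrullDim C < ((N + 1 : ℕ) : WithBot ℕ∞) := by
    refine HilbLib.dim_lt_of_notMem hC (fun x _ => ?_) h ?_
    · rw [show closure {genericPoint X} = (Set.univ : Set X) from genericPoint_spec X]
      trivial
    · refine lt_of_le_of_lt ((isClosed_closure.isClosedEmbedding_subtypeVal).topologicalKrullDim_le.trans hdim) ?_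
      exact_mod_cast Nat.lt_succ_self (N + 1)
  revert hlt
  generalize topologicalKrullDim C = e
  intro hlt
  induction e with
  | bot => exact bot_le
  | coe a =>
    have ha : a < ((N + 1 : ℕ) : ℕ∞) := WithBot.coe_lt_coe.1 hlt
    exact WithBot.coe_le_coe.2 (ENat.lt_coe_add_one_iff.1 (by exact_mod_cast ha))

variable [IsIntegral X]

include hdim in
/-- A nonzero map into an invertible module is surjective on top cohomology. -/
theorem surjective_top_of_ne_zero {K L : X.Modules} (hK : Coh.IsCoh K) (hL : PicF.IsInvertible L)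
    {ψ : K ⟶ L} (hψ : ψ ≠ 0) : Function.Surjective (CurveLib.hMap (k := k) ψ (N + 1)) := by
  haveI := EulerIneqLib.isNoetherian_proper (X := X) k
  have hLc := CurveLib.isCoh_of_isInvertible hL
  have hLr := CurveLib.isFinLocFreeOfRank_one hL
  haveI := hLc.1
  let η := genericPoint X
  have hne : stalkLin ψ η ≠ 0 := fun h0 => hψ (by
    refine Scheme.Modules.hom_ext _ _ fun V => AddCommGrpCat.hom_ext (AddMonoidHom.ext fun s => ?_)
    exact VBLib.isTF_of_rank hLr V (ψ.app V s) fun hx => by rw [← stalkLin_germ, h0]; rfl)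
  obtain ⟨e⟩ := CurveLib.freeAt_of_isFinLocFreeOfRank hLr η
  have hsurj : Function.Surjective (stalkLin ψ η) := by
    intro z
    obtain ⟨v, hv⟩ : ∃ v, stalkLin ψ η v ≠ 0 := by
      by_contra hall
      push Not at hall
      exact hne (LinearMap.ext hall)
    have hu : IsUnit (e (stalkLin ψ η v) 0) := by
      refine Ne.isUnit (show ((e (stalkLin ψ η v) 0 : X.presheaf.stalk η) : X.functionField) ≠ 0 from fun h00 => hv ?_)
      refine e.injective (funext fun i => ?_)
      rw [Subsingleton.elim i 0, map_zero]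
      exact h00
    obtain ⟨a, ha⟩ := hu.exists_left_inv
    refine ⟨(e z 0 * a) • v, e.injective (funext fun i => ?_)⟩
    rw [map_smul, map_smul, Pi.smul_apply, Subsingleton.elim i 0, smul_eq_mul, mul_assoc, ha, mul_one]
  let b := Abelian.image.ι ψ
  have hcomp : ∀ x v, stalkLin b x (stalkLin (Abelian.factorThruImage ψ) x v) = stalkLin ψ x v := fun x v => by
    rw [← LinearMap.comp_apply, ← stalkLin_comp, Abelian.image.fac]
  have hηC : η ∉ CohB1.support (cokernel b) := fun h => h (DevLib.subsingleton_coker b fun z => by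
    obtain ⟨v, rfl⟩ := hsurj z
    exact ⟨_, hcomp η v⟩)
  have hcψ := (QCohLib.isCoh_kernel_cokernel ψ hK hLc).2
  have hI : Coh.IsCoh (Abelian.image ψ) := (QCohLib.isCoh_kernel_cokernel (cokernel.π ψ) hLc hcψ).1
  have hc : Coh.IsCoh (cokernel b) := (QCohLib.isCoh_kernel_cokernel b hI hLc).2
  refine hMap_top_surjective hdim ψ (DevLib.isClosed_support hc) (dim_le_of_notMem hdim (DevLib.isClosed_support hc) hηC)
    fun x hx z => ?_
  have h0 : stalkLin (cokernel.π b) x z = 0 := @Subsingleton.elim _ (not_not.1 hx) _ _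
  obtain ⟨w, rfl⟩ := (DevLib.coker_exact b x z).1 h0
  obtain ⟨v, rfl⟩ := (PullbackMod.epi_iff_stalk (Abelian.factorThruImage ψ)).1 inferInstance x w
  exact ⟨v, (hcomp x v).symm⟩

include hdim in
/-- A map into an invertible module vanishing on top cohomology vanishes. -/
theorem eq_zero_of_hMap_top {K L : X.Modules} (hK : Coh.IsCoh K) (hL : PicF.IsInvertible L)
    [Nontrivial (Coh.HH X L (N + 1))] {ψ : K ⟶ L}
    (h : ∀ z, CurveLib.hMap (k := k) ψ (N + 1) z = 0) : ψ = 0 := by
  by_contra hψ
  obtain ⟨w, hw⟩ := exists_ne (0 : Coh.HH X L (N + 1))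
  obtain ⟨z, rfl⟩ := surjective_top_of_ne_zero (k := k) hdim hK hL hψ w
  exact hw (h z)

end Groth.Agent.HorrocksPnLib
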